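import Cfsg.Agent.H568.OC.Lam
import Cfsg.Agent.H776.CY.Congr
import Cfsg.Agent.S4613
import Cfsg.Agent.KFacts.RgdTau

/-!
# S4829, own characteristic: the rows of `E₆(q)`, `E₇(q)`, `E₈(q)`, `q` odd (helper568)
-/

set_option autoImplicit false
set_option linter.unusedSectionVars false
set_option maxHeartbeats 400000

namespace Cfsg.Agent.H568.OC

open CoxeterSystem Cfsg.Agent.ChevalleyStructure.CoxeterGeom Cfsg.Agent.Tits.Roots Cfsg.Agent.Tits.Core
  Cfsg.Agent.Nodes.Reps Cfsg.Agent.Nodes.BNOf Cfsg.Agent.Nodes.OppDec Cfsg.Agent.Nodes.Bruhat Cfsg.Agent.Nodes.StabComb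
open Cfsg.Agent.KFacts.RgdAut Cfsg.Agent.KFacts.RgdDiag
open Cfsg.Agent.H798.Oc.Ind Cfsg.Agent.H798.Oc.Main Cfsg.Agent.H770.CY

section Abs

variable {I W Y : Type*} [Fintype I] [DecidableEq I] [Group W] [Group Y] {M : CoxeterMatrix I}
  {cs : CoxeterSystem M W} {A : I → I → ℤ} {h : IsCartan M A} {p : ℕ} {T : Subgroup Y} {n : I → Y}
  {X : (I → ℤ) → Subgroup Y}

variable (R : RGD cs h p T n X) [Finite W] [Finite Y] [hp : Fact p.Prime] (hG : GG cs h T X = ⊤)

include R hG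

/-- a subgroup fixed by the diagonal automorphisms -/
theorem hst_of {V : Subgroup Y} (hV : ∀ (β : MulAut Y) (σ : Equiv.Perm I), Diag T X β σ → ∀ x, β x ∈ V ↔ x ∈ V)
    (a : MulAut Y) : ∃ s : Y, ∀ x, s * a x * s⁻¹ ∈ V ↔ x ∈ V := by
  obtain ⟨g, σ, D⟩ := exists_inner_diag R hG a
  exact ⟨g, fun x => hV _ σ D x⟩

omit [Finite Y] hp hG in
/-- the highest root is fixed by the diagram symmetries -/
theorem comp_of_max {σ : Equiv.Perm I} (hσ : ∀ i j, M (σ i) (σ j) = M i j) (hA : ∀ i j, A (σ i) (σ j) = A i j)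
    {r : I → ℤ} (hr : IsRoot cs h r) (hmax : ∀ x, IsRoot cs h x → x ≤ r) : r ∘ σ.symm = r := by
  have key : ∀ {τ : Equiv.Perm I}, (∀ i j, M (τ i) (τ j) = M i j) → (∀ i j, A (τ i) (τ j) = A i j) →
      r ∘ τ.symm ≤ r := by
    intro τ h1 h2
    obtain ⟨w, i, e⟩ := hr
    refine hmax _ ?_
    rw [e, ← rep_hat h1 h2, sr_comp]
    exact ⟨_, _, rfl⟩
  refine le_antisymm (key hσ hA) fun i => ?_
  have h1 : ∀ i j, M (σ.symm i) (σ.symm j) = M i j := fun i j => by
    rw [← hσ, σ.apply_symm_apply, σ.apply_symm_apply]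
  have h2 : ∀ i j, A (σ.symm i) (σ.symm j) = A i j := fun i j => by
    rw [← hA, σ.apply_symm_apply, σ.apply_symm_apply]
  have h3 := key h1 h2 (σ.symm i)
  have h4 : (r ∘ (σ.symm).symm) (σ.symm i) = r i := by
    show r (σ (σ.symm i)) = r i
    rw [σ.apply_symm_apply]
  rw [h4] at h3
  exact h3

/-- the class of the highest root group is fixed by all automorphisms -/
theorem hst_high (hA : ∀ (β : MulAut Y) (σ : Equiv.Perm I), Diag T X β σ → ∀ i j, A (σ i) (σ j) = A i j)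
    {r : I → ℤ} (hr : IsRoot cs h r) (hmax : ∀ x, IsRoot cs h x → x ≤ r) (a : MulAut Y) :
    ∃ s : Y, ∀ x, s * a x * s⁻¹ ∈ X r ↔ x ∈ X r := by
  refine hst_of R hG (fun β σ D x => ?_) a
  have h1 := D.root_comp R (hA β σ D) hr x
  rwa [comp_of_max R (D.matrix R) (hA β σ D) hr hmax] at h1

end Abs

/-- the row from a subgroup `V` -/
theorem row_of_V {p : ℕ} [Fact p.Prime] {S : Type*} [Group S] [Fintype S] [IsSimpleGroup S] (hL : Cfsg.IsLieTypeChar p S)
    (V : Subgroup S) (hst : ∀ a : MulAut S, ∃ s : S, ∀ x, s * a x * s⁻¹ ∈ V ↔ x ∈ V)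
    (hdeg : ¬ p ∣ (Subgroup.normalizer (V : Set S)).index) (hmf : Mf (Psi V)) : RowA p S :=
  rowA_of_sub V hst hdeg hmf fun a ha ⟨Q, hQ⟩ => Cfsg.Agent.S4613.result p hL a ha Q hQ

/-- transport of a row of a concrete group -/
theorem rowFor_of {p : ℕ} {X G : Type} [Group X] [Fintype X] [IsSimpleGroup X] [Group G] (e : X ≃* G)
    (h : ∀ [Fintype G] [IsSimpleGroup G], RowA p G) : RowA p X := by
  have : Fintype G := Fintype.ofEquiv X e.toEquiv
  have : Nontrivial G := e.symm.toEquiv.nontrivial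
  have : IsSimpleGroup G := IsSimpleGroup.isSimpleGroup_of_surjective e.toMonoidHom e.surjective
  exact Cfsg.Agent.H776.CY.RowA.congr e h

section Chev

open Cfsg.Agent.Nodes.RGDChev Cfsg.Agent.KFacts.RgdChevCoord Cfsg.Agent.KFacts.RgdTau
open Cfsg.Lie Cfsg.Agent.ChevalleyStructure Cfsg.Agent.ChevalleyStructure.Elts
  Cfsg.Agent.ChevalleyStructure.NPerm Cfsg.Agent.ChevalleyStructure.CoxeterGeomTypes
open Cfsg.Agent.H798.Oc.Scal Cfsg.Agent.H798.Oc.Untw Cfsg.Agent.H239.OCTab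

variable {D : ChevalleyDatum} {l : ℕ} {M : CoxeterMatrix (Fin l)}

/-- the constituents of the character of the highest root group -/
theorem mf_chev (hp : IsType D l M) {r₀ : ℕ} {L : List ℕ} (h1 : chk D l r₀ L = true)
    (h2 : chkHigh D l r₀ = true) (h3 : chkMove D l r₀ = true) (p : ℕ) [Fact p.Prime] (hp2 : p ≠ 2)
    (K : Type) [Field K] [Finite K] [CharP K p] [Fintype ↥(D.group K)] :
    RGD.B M.toCoxeterSystem hp.isCartan (TT D K) (XX D l K) ≤
      Subgroup.normalizer (XX D l K (vec D l r₀) : Set ↥(D.group K)) ∧ Mf (Psi (XX D l K (vec D l r₀))) := by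
  have hW : Finite M.Group := finite_W hp M.toCoxeterSystem
  have R := rgd (K := K) hp M.toCoxeterSystem p
  have hG := KFacts.RgdFilt.GG_eq_top (T := TT D K) (G1_eq_top (K := K) hp M.toCoxeterSystem)
  have C := coords (K := K) hp M.toCoxeterSystem p
  obtain ⟨hx, hmax⟩ := high_root hp M.toCoxeterSystem h2
  obtain ⟨h0, -⟩ := high_spec h2
  have hodd : Odd (Nat.card K) := odd_card (p := p) hp2
  have hV : RGD.B M.toCoxeterSystem hp.isCartan (TT D K) (XX D l K) ≤
      Subgroup.normalizer (XX D l K (vec D l r₀) : Set ↥(D.group K)) := by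
    refine le_trans ?_ (borel_le hp M.toCoxeterSystem h2 p)
    exact sup_le_sup le_rfl (RGD.Sup_mono fun x hx => ⟨hx.1, hx.2, fun k hk => absurd (Set.mem_univ k) hk⟩)
  have hpos : (0 : Fin l → ℤ) ≤ vec D l r₀ := by
    by_contra hcon
    have h4 := (hx.not_nonneg_iff_neg).1 hcon
    have h5 := hmax _ hx.neg
    have h6 : vec D l r₀ = 0 := by
      funext i
      have h7 : (0 : ℤ) ≤ (-vec D l r₀) i := h4 i
      have h8 : (-vec D l r₀) i ≤ vec D l r₀ i := h5 i
      have h9 : (-vec D l r₀) i = -(vec D l r₀ i) := rfl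
      have h10 : (0 : Fin l → ℤ) i = 0 := rfl
      omega
    exact hx.ne_zero h6
  refine ⟨hV, mf_root R hG hp2 hx hpos hV (fun w hw => by
    refine sep hp M.toCoxeterSystem h1 (K := K) (exists_nonsquare hodd) w fun t ht => ?_
    have hr := hx.act (h := hp.isCartan) w
    rw [← sv_eq_one_iff hodd (C.coord _ hr) ht, ← sv_eq_one_iff hodd (C.coord _ hx) ht, hw t ht])
    (move_spec hp M.toCoxeterSystem h0 h3)⟩

/-- **The row of a tabulated Chevalley group**, when the diagram symmetries of automorphisms preserve the Cartan matrix. -/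
theorem row_chev (hp : IsType D l M) {r₀ : ℕ} {L : List ℕ} (h1 : chk D l r₀ L = true)
    (h2 : chkHigh D l r₀ = true) (h3 : chkMove D l r₀ = true) (p : ℕ) [Fact p.Prime] (hp2 : p ≠ 2)
    (K : Type) [Field K] [Finite K] [CharP K p] [Fintype ↥(D.group K)] [IsSimpleGroup ↥(D.group K)]
    (hL : Cfsg.IsLieTypeChar p ↥(D.group K))
    (hA : ∀ (β : MulAut ↥(D.group K)) (σ : Equiv.Perm (Fin l)), Diag (TT D K) (XX D l K) β σ →
      ∀ i j, cartanOf D l (σ i) (σ j) = cartanOf D l i j) : RowA p ↥(D.group K) := by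
  have hW : Finite M.Group := finite_W hp M.toCoxeterSystem
  have R := rgd (K := K) hp M.toCoxeterSystem p
  have hG := KFacts.RgdFilt.GG_eq_top (T := TT D K) (G1_eq_top (K := K) hp M.toCoxeterSystem)
  obtain ⟨hx, hmax⟩ := high_root hp M.toCoxeterSystem h2
  obtain ⟨hV, hmf⟩ := mf_chev hp h1 h2 h3 p hp2 K
  exact row_of_V hL _ (hst_high R hG hA hx hmax) (not_dvd_index R hG hV) hmf

end Chev

end Cfsg.Agent.H568.OC
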