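import Cfsg.Agent.H568.OC.Mf
import Cfsg.Agent.H770.CY.Defs

/-!
# S4829: the row from a sign character of a subgroup of the automorphism group (helper568)

`S` a finite group with trivial centre, `K ≤ MulAut S` with `K Inn S = MulAut S`, `lam : K →* {±1}`, `P = K ∩ S`.

* `sumA` : the restriction of the induced character;
* `rowA_of_lam` : `RowA p S` when the constituents of `Ind_P^S lam` are integer valued, of multiplicity one, nontrivial, `p ∤ |S : P|`
  and no nontrivial `p`-regular automorphism centralizes a Sylow `p`-subgroup (S4613);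
* `rowA_of_sub` : the case of the sign of the automorphisms on a subgroup `V`.
-/

set_option autoImplicit false
set_option linter.unusedSectionVars false

open scoped ComplexConjugate

namespace Cfsg.Agent.H568.OC

open Cfsg Cfsg.Agent.H770.CY Cfsg.Agent.Characters
open Cfsg.Agent.H798.Oc.Sign Cfsg.Agent.H798.Oc.Ind Cfsg.Agent.H798.Oc.Main

universe u

/-- integer valued characters are `Cyc` -/
theorem cyc_of_int {p : ℕ} {G : Type u} [Group G] [Finite G] {χ : G → ℂ} (hχ : IsCharacter G χ)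
    (hi : ∀ g, ∃ k : ℤ, χ g = k) : Cyc p χ := by
  intro k hk _ g
  obtain ⟨σ, hσ⟩ := GaloisBasic.exists_ringEquiv_of_coprime (G := G) hk
  obtain ⟨m, hm⟩ := hi g
  rw [← hσ χ hχ g, hm, map_intCast]

section Sum

variable {S A : Type*} [Group S] [Group A] [Fintype S] [Fintype A]

/-- **Summation over the cosets**: `φ(S) H = A`, `F` right `H`-invariant. -/
theorem sum_cosets (φ : S →* A) (H : Subgroup A) (hφ : ∀ a : A, ∃ s : S, φ s * a ∈ H) (F : A → ℂ)
    (hF : ∀ a, ∀ b ∈ H, F (a * b) = F a) :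
    (Nat.card H : ℂ) * ∑ s : S, F (φ s) = (Nat.card (H.comap φ) : ℂ) * ∑ a : A, F a := by
  classical
  have h1 : ∑ s : S, ∑ a : A, (if (φ s)⁻¹ * a ∈ H then F a else 0) = (Nat.card H : ℂ) * ∑ s : S, F (φ s) := by
    rw [Finset.mul_sum]
    refine Finset.sum_congr rfl fun s _ => ?_
    have h2 : ∀ a : A, (if (φ s)⁻¹ * a ∈ H then F a else 0) = if (φ s)⁻¹ * a ∈ H then F (φ s) else 0 := by
      intro a
      split_ifs with h
      · have := hF (φ s) _ h
        rwa [mul_inv_cancel_left] at this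
      · rfl
    rw [Finset.sum_congr rfl fun a _ => h2 a, ← Finset.sum_filter, Finset.sum_const, nsmul_eq_mul]
    congr 2
    rw [Nat.card_eq_fintype_card, Fintype.card_subtype]
    refine Finset.card_bij (fun a _ => (φ s)⁻¹ * a) ?_ ?_ ?_
    · intro a ha
      rw [Finset.mem_filter] at ha ⊢
      exact ⟨Finset.mem_univ _, ha.2⟩
    · intro a _ b _ hab
      exact mul_left_cancel hab
    · intro b hb
      refine ⟨φ s * b, ?_, inv_mul_cancel_left _ _⟩
      rw [Finset.mem_filter] at hb ⊢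
      rw [inv_mul_cancel_left]
      exact ⟨Finset.mem_univ _, hb.2⟩
  have h3 : ∑ s : S, ∑ a : A, (if (φ s)⁻¹ * a ∈ H then F a else 0) = (Nat.card (H.comap φ) : ℂ) * ∑ a : A, F a := by
    rw [Finset.sum_comm, Finset.mul_sum]
    refine Finset.sum_congr rfl fun a _ => ?_
    rw [← Finset.sum_filter, Finset.sum_const, nsmul_eq_mul]
    congr 2
    obtain ⟨s₀, hs₀⟩ := hφ a
    rw [Nat.card_eq_fintype_card, Fintype.card_subtype]
    refine Finset.card_bij (fun s _ => s₀ * s) ?_ ?_ ?_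
    · intro s hs
      rw [Finset.mem_filter] at hs ⊢
      refine ⟨Finset.mem_univ _, ?_⟩
      rw [Subgroup.mem_comap, map_mul]
      have := H.mul_mem hs₀ (H.inv_mem hs.2)
      have e : φ s₀ * a * ((φ s)⁻¹ * a)⁻¹ = φ s₀ * φ s := by group
      rwa [e] at this
    · intro a _ b _ hab
      exact mul_left_cancel hab
    · intro s hs
      refine ⟨s₀⁻¹ * s, ?_, mul_inv_cancel_left _ _⟩
      rw [Finset.mem_filter] at hs ⊢
      refine ⟨Finset.mem_univ _, ?_⟩
      have := H.mul_mem (H.inv_mem (Subgroup.mem_comap.1 hs.2)) hs₀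
      rw [map_mul, map_inv]
      have e : ((φ s₀)⁻¹ * φ s)⁻¹ * a = (φ s)⁻¹ * (φ s₀ * a) := by group
      rwa [e]
  rw [← h1, h3]

/-- **The restriction of an induced linear character.** -/
theorem ind_res (φ : S →* A) (H : Subgroup A) (hφ : ∀ a : A, ∃ s : S, φ s * a ∈ H) (ξ : H →* ℤˣ) (s : S) :
    indFun H (fun x => (cu ξ x : ℂ)) (φ s) =
      indFun (H.comap φ) (fun x => (cu (ξ.comp (φ.subgroupComap H)) x : ℂ)) s := by
  classical
  have hH : (Nat.card H : ℂ) ≠ 0 := by exact_mod_cast Nat.card_pos.ne'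
  have hP : (Nat.card (H.comap φ) : ℂ) ≠ 0 := by exact_mod_cast Nat.card_pos.ne'
  rw [Core.indFun_apply, Core.indFun_apply]
  have h1 := sum_cosets φ H hφ (fun a => extendByZero H (fun x => (cu ξ x : ℂ)) (a⁻¹ * φ s * a)) (by
    intro a b hb
    have e : (a * b)⁻¹ * φ s * (a * b) = b⁻¹ * (a⁻¹ * φ s * a) * b := by group
    rw [e]
    generalize a⁻¹ * φ s * a = y
    by_cases hy : y ∈ H
    · have hy' : b⁻¹ * y * b ∈ H := H.mul_mem (H.mul_mem (H.inv_mem hb) hy) hb
      rw [Core.extendByZero_of_mem H _ hy, Core.extendByZero_of_mem H _ hy']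
      have e2 : (⟨b⁻¹ * y * b, hy'⟩ : H) = ⟨b, hb⟩⁻¹ * ⟨y, hy⟩ * ⟨b, hb⟩ := rfl
      rw [e2, map_mul, map_mul, map_inv, mul_comm, mul_inv_cancel_left]
    · have hy' : b⁻¹ * y * b ∉ H := by
        intro h
        apply hy
        have := H.mul_mem (H.mul_mem hb h) (H.inv_mem hb)
        have e2 : b * (b⁻¹ * y * b) * b⁻¹ = y := by group
        rwa [e2] at this
      rw [Core.extendByZero_of_notMem H _ hy, Core.extendByZero_of_notMem H _ hy'])
  have h2 : ∀ t : S, extendByZero H (fun x => (cu ξ x : ℂ)) ((φ t)⁻¹ * φ s * φ t) =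
      extendByZero (H.comap φ) (fun x => (cu (ξ.comp (φ.subgroupComap H)) x : ℂ)) (t⁻¹ * s * t) := by
    intro t
    have e : (φ t)⁻¹ * φ s * φ t = φ (t⁻¹ * s * t) := by rw [map_mul, map_mul, map_inv]
    rw [e]
    generalize t⁻¹ * s * t = y
    by_cases hy : φ y ∈ H
    · rw [Core.extendByZero_of_mem H _ hy, Core.extendByZero_of_mem (H.comap φ) _ (Subgroup.mem_comap.2 hy)]
      rfl
    · rw [Core.extendByZero_of_notMem H _ hy, Core.extendByZero_of_notMem (H.comap φ) _ fun h => hy (Subgroup.mem_comap.1 h)]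
  rw [Finset.sum_congr rfl fun t _ => h2 t] at h1
  field_simp
  rw [mul_comm (Nat.card (H.comap φ) : ℂ)] at h1
  rw [← h1]

end Sum

variable {p : ℕ} {S : Type u} [Group S] [Fintype S]

theorem mul_eq (ψ θ : S → ℂ) : mul ψ θ = classInner ψ θ := rfl

/-- **The row from a sign character of a subgroup of the automorphism group.** -/
theorem rowA_of_lam (K : Subgroup (MulAut S)) (lam : K →* ℤˣ) (hK : ∀ a : MulAut S, ∃ s : S, MulAut.conj s * a ∈ K)
    (hdeg : ¬ p ∣ (K.comap (MulAut.conj : S →* MulAut S)).index)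
    (hmf : Mf (indFun (K.comap (MulAut.conj : S →* MulAut S)) fun x =>
      (cu (lam.comp ((MulAut.conj : S →* MulAut S).subgroupComap K)) x : ℂ)))
    (hloc : ∀ a : MulAut S, ¬ p ∣ orderOf a → (∃ Q : Sylow p S, ∀ x ∈ Q, a x = x) → a = 1) : RowA p S := by
  classical
  intro A hA M hM
  have : Fintype A := Fintype.ofFinite _
  let φ : S →* A := (MulAut.conj : S →* MulAut S).codRestrict A hA.1
  let H : Subgroup A := K.subgroupOf A
  let ξ : H →* ℤˣ := lam.comp (A.subtype.subgroupComap K)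
  have hφ : ∀ a : A, ∃ s : S, φ s * a ∈ H := by
    intro a
    obtain ⟨s, hs⟩ := hK a
    exact ⟨s, Subgroup.mem_subgroupOf.2 hs⟩
  let Ψ : A → ℂ := indFun H fun x => (cu ξ x : ℂ)
  have hΨ : IsCharacter A Ψ := ind_isCharacter H (cu ξ)
  have hP : H.comap φ = K.comap (MulAut.conj : S →* MulAut S) := rfl
  have hres : ∀ s : S, res hA.1 Ψ s = indFun (K.comap (MulAut.conj : S →* MulAut S)) (fun x =>
      (cu (lam.comp ((MulAut.conj : S →* MulAut S).subgroupComap K)) x : ℂ)) s := fun s => ind_res φ H hφ ξ s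
  refine ⟨Ψ, hΨ, cyc_of_int hΨ (ind_int H ξ), ?_, ?_, ?_⟩
  · refine ⟨(K.comap (MulAut.conj : S →* MulAut S)).index, ?_, hdeg⟩
    have h1 := hres 1
    rw [ind_one] at h1
    rw [← h1]
    show Ψ 1 = Ψ _
    congr 1
    exact Subtype.ext (map_one _).symm
  · intro θ
    rw [mul_eq, funext hres]
    rcases hmf θ with h1 | ⟨h1, h2, h3⟩
    · exact Or.inl h1
    · exact Or.inr ⟨h1, h2, cyc_of_int (Core.isIrr_isCharacter θ.2) h3⟩
  · intro a ha hQ
    have h1 : (a : MulAut S) = 1 := by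
      refine hloc a ?_ hQ
      rwa [Subgroup.orderOf_coe]
    have h2 : a = 1 := Subtype.ext h1
    rw [h2, sub_self]
    exact ⟨0, 1, M.zero_mem, fun h => hM.2.1.ne_top ((Ideal.eq_top_iff_one M).2 h), by simp⟩

/-! ### The sign on a subgroup -/

/-- the automorphisms fixing `V` -/
def stabV (V : Subgroup S) : Subgroup (MulAut S) where
  carrier := {a | ∀ x, a x ∈ V ↔ x ∈ V}
  one_mem' := fun _ => Iff.rfl
  mul_mem' := fun {a b} ha hb x => by rw [MulAut.mul_apply, ha, hb]
  inv_mem' := fun {a} ha x => by rw [← ha, MulAut.apply_inv_self]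

theorem mem_stabV {V : Subgroup S} {a : MulAut S} : a ∈ stabV V ↔ ∀ x, a x ∈ V ↔ x ∈ V := Iff.rfl

/-- the permutation of `V` -/
def permV (V : Subgroup S) : stabV V →* Equiv.Perm V where
  toFun a := Equiv.Perm.subtypePerm (MulEquiv.toEquiv (a : MulAut S)) fun x => (a.2 x)
  map_one' := by
    ext x
    rfl
  map_mul' a b := by
    ext x
    rfl

/-- the sign on `V` -/
noncomputable def sgV (V : Subgroup S) : stabV V →* ℤˣ := sgn.comp (permV V)

theorem comap_stabV (V : Subgroup S) :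
    (stabV V).comap (MulAut.conj : S →* MulAut S) = Subgroup.normalizer (V : Set S) := by
  ext s
  rw [Subgroup.mem_comap, mem_stabV, Subgroup.mem_normalizer_iff]
  exact ⟨fun h x => (h x).symm, fun h x => (h x).symm⟩

theorem indFun_congr {P P' : Subgroup S} (h : P = P') (f : P → ℂ) (f' : P' → ℂ)
    (hf : ∀ x (h1 : x ∈ P) (h2 : x ∈ P'), f ⟨x, h1⟩ = f' ⟨x, h2⟩) : indFun P f = indFun P' f' := by
  subst h
  congr 1
  funext x
  exact hf x x.2 x.2

theorem sgV_conj (V : Subgroup S) {s : S} (h1 : MulAut.conj s ∈ stabV V) (h2 : s ∈ Subgroup.normalizer (V : Set S)) :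
    sgV V ⟨MulAut.conj s, h1⟩ = sg V ⟨s, h2⟩ := by
  rw [sg_apply]
  show sgn (permV V ⟨MulAut.conj s, h1⟩) = _
  have e : permV V ⟨MulAut.conj s, h1⟩ = MulAut.toPerm V (V.normalizerMonoidHom ⟨s, h2⟩) := by
    ext x
    rfl
  rw [e]

/-- **The row from the sign on a subgroup whose class is fixed by all automorphisms.** -/
theorem rowA_of_sub (V : Subgroup S) (hst : ∀ a : MulAut S, ∃ s : S, ∀ x, s * a x * s⁻¹ ∈ V ↔ x ∈ V)
    (hdeg : ¬ p ∣ (Subgroup.normalizer (V : Set S)).index) (hmf : Mf (Psi V))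
    (hloc : ∀ a : MulAut S, ¬ p ∣ orderOf a → (∃ Q : Sylow p S, ∀ x ∈ Q, a x = x) → a = 1) : RowA p S := by
  refine rowA_of_lam (stabV V) (sgV V) hst ?_ ?_ hloc
  · rwa [comap_stabV]
  · have e : indFun ((stabV V).comap (MulAut.conj : S →* MulAut S)) (fun x =>
        (cu ((sgV V).comp ((MulAut.conj : S →* MulAut S).subgroupComap (stabV V))) x : ℂ)) = Psi V := by
      refine indFun_congr (comap_stabV V) _ _ fun x h1 h2 => ?_
      rw [cu_apply, cu_apply]
      congr 2
      exact sgV_conj V h1 h2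
    rw [e]
    exact hmf

end Cfsg.Agent.H568.OC
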