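import Cfsg.Agent.H798.Oc.Gen
import Cfsg.Agent.H798.Oc.Untw

/-!
# S4829, own characteristic: the constituents of `Ind_{N(V)} (sign on V)` (helper568, after helper798)

* `Mf ψ` : all constituents of `ψ` have multiplicity one, are nontrivial and integer valued;
* `mf_of_pair` : two integer valued characters, norm at most two, inner product one;
* `mf_main`, `mf_root`, `mf_gen` : the root group datum.
-/

set_option autoImplicit false
set_option linter.unusedSectionVars false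
set_option maxHeartbeats 400000

namespace Cfsg.Agent.H568.OC

open Cfsg CoxeterSystem Cfsg.Agent.ChevalleyStructure.CoxeterGeom Cfsg.Agent.Tits.Roots Cfsg.Agent.Tits.Core
  Cfsg.Agent.Tits.RootComb Cfsg.Agent.Tits.Exchange Cfsg.Agent.Nodes.Comb Cfsg.Agent.Nodes.Reps Cfsg.Agent.Nodes.BNOf
  Cfsg.Agent.Nodes.StabComb Cfsg.Agent.Nodes.Bruhat Cfsg.Agent.Nodes.OppDec Cfsg.Agent.Nodes.LeviDec
  Cfsg.Agent.KFacts.RgdAut Cfsg.Agent.KFacts.RgdDiag
open Cfsg.Agent.H798.Oc.Sign Cfsg.Agent.H798.Oc.Ind Cfsg.Agent.H798.Oc.Pair Cfsg.Agent.H798.Oc.Main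
  Cfsg.Agent.H798.Oc.Gen Cfsg.Agent.H150.Toral

section Pair

open Cfsg.Agent.Characters.Core Cfsg.Agent.OddOrderCharacters

variable {S : Type*} [Group S] [Fintype S]

/-- all constituents have multiplicity one, are nontrivial and integer valued -/
def Mf (ψ : S → ℂ) : Prop :=
  ∀ θ : IrrCharacter S, classInner ψ (θ : S → ℂ) = 0 ∨
    (classInner ψ (θ : S → ℂ) = 1 ∧ (θ : S → ℂ) ≠ (fun _ => 1) ∧ ∀ g, ∃ k : ℤ, (θ : S → ℂ) g = k)

/-- a character of norm less than four is multiplicity free -/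
theorem mult_le_one {Ψ : S → ℂ} (hΨ : IsCharacter S Ψ) {N : ℕ} (hN : classInner Ψ Ψ = N) (hN2 : N < 4)
    {χ : S → ℂ} (hχ : IsIrrCharacter S χ) {a : ℕ} (ha : classInner Ψ χ = a) : a ≤ 1 := by
  by_contra hcon
  have h0 : classInner Ψ χ ≠ 0 := by
    rw [ha]
    exact_mod_cast (by omega : a ≠ 0)
  have h1 := Clifford.isCharacter_sub_irr hΨ hχ h0
  have h2 : classInner (Ψ - χ) χ = ((a - 1 : ℕ) : ℂ) := by
    rw [classInner_sub_left, ha, classInner_irr_self hχ, Nat.cast_sub (by omega), Nat.cast_one]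
  have h3 := Clifford.isCharacter_sub_irr h1 hχ (by
    rw [h2]
    exact_mod_cast (by omega : a - 1 ≠ 0))
  obtain ⟨b, hb⟩ := classInner_isNat h3 h3
  obtain ⟨c, hc⟩ := classInner_isNat h3 (isIrr_isCharacter hχ)
  obtain ⟨Φ, hΦ⟩ : ∃ Φ, Φ = Ψ - χ - χ := ⟨_, rfl⟩
  rw [← hΦ] at hb hc
  have e1 : Ψ = Φ + (χ + χ) := by rw [hΦ]; ring
  have hc' : classInner χ Φ = c := by
    have := classInner_conj_symm Φ χ
    rw [hc] at this
    simpa using this.symm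
  have e2 : classInner Ψ Ψ = b + 4 * c + 4 := by
    rw [e1]
    simp only [classInner_add_left, classInner_add_right]
    rw [hb, hc, hc', classInner_irr_self hχ]
    ring
  rw [hN] at e2
  have e3 : N = b + 4 * c + 4 := by exact_mod_cast e2
  omega

/-- a function with integer values is fixed by the field automorphisms -/
theorem gal_of_int {Ψ : S → ℂ} (iΨ : ∀ g, ∃ k : ℤ, Ψ g = k) (σ : ℂ ≃+* ℂ) : Galois.gal σ Ψ = Ψ := by
  funext x
  obtain ⟨k, hk⟩ := iΨ x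
  show σ (Ψ x) = Ψ x
  rw [hk, map_intCast]

theorem int_of_fix {θ : S → ℂ} (hθ : IsIrrCharacter S θ) (h : ∀ σ : ℂ ≃+* ℂ, Galois.gal σ θ = θ) (g : S) :
    ∃ k : ℤ, θ g = k := by
  refine Characters.Galois.exists_int_of_forall_ringEquiv ?_ fun σ => ?_
  · exact Characters.GaloisBasic.isIntegral_apply (isIrr_isCharacter hθ) g
  · exact congrFun (h σ) g

theorem inner_gal {Ψ : S → ℂ} (hΨ : IsCharacter S Ψ) (iΨ : ∀ g, ∃ k : ℤ, Ψ g = k) (σ : ℂ ≃+* ℂ) {θ : S → ℂ}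
    (hθ : IsIrrCharacter S θ) : classInner Ψ (Galois.gal σ θ) = classInner Ψ θ := by
  conv_lhs => rw [← gal_of_int iΨ σ]
  exact Galois.classInner_gal σ (isGen hΨ) (isGen (isIrr_isCharacter hθ))

theorem gal_inner {π : S → ℂ} (hπ : IsCharacter S π) (iπ : ∀ g, ∃ k : ℤ, π g = k) (σ : ℂ ≃+* ℂ) {θ : S → ℂ}
    (hθ : IsIrrCharacter S θ) : classInner (Galois.gal σ θ) π = classInner θ π := by
  conv_lhs => rw [← gal_of_int iπ σ]
  exact Galois.classInner_gal σ (isGen (isIrr_isCharacter hθ)) (isGen hπ)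

/-- **Two integer valued characters with inner product one.** -/
theorem mf_of_pair {Ψ π : S → ℂ} (hΨ : IsCharacter S Ψ) (hπ : IsCharacter S π)
    (iΨ : ∀ g, ∃ k : ℤ, Ψ g = k) (iπ : ∀ g, ∃ k : ℤ, π g = k) {N : ℕ} (hN : classInner Ψ Ψ = N) (hN2 : N ≤ 2)
    (h1 : classInner Ψ π = 1) (h0 : classInner Ψ 1 = 0) : Mf Ψ := by
  intro θ
  obtain ⟨a, ha⟩ := classInner_isNat hΨ (isIrr_isCharacter θ.2)
  have ha1 := mult_le_one hΨ hN (by omega) θ.2 ha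
  rcases Nat.le_one_iff_eq_zero_or_eq_one.1 ha1 with rfl | rfl
  · left
    rw [ha, Nat.cast_zero]
  right
  rw [Nat.cast_one] at ha
  refine ⟨ha, fun h => ?_, ?_⟩
  · have : (θ : S → ℂ) = 1 := h
    rw [this, h0] at ha
    exact zero_ne_one ha
  · refine int_of_fix θ.2 fun σ => ?_
    exact fix_of_odd hΨ hπ hN hN2 h1 θ.2 (by rw [ha]; exact one_ne_zero) (GaloisTwist.isIrrCharacter_map σ θ.2)
      (inner_gal hΨ iΨ σ θ.2) (gal_inner hπ iπ σ θ.2)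

end Pair

variable {I W Y : Type*} [Fintype I] [DecidableEq I] [Group W] [Group Y] {M : CoxeterMatrix I}
  {cs : CoxeterSystem M W} {A : I → I → ℤ} {h : IsCartan M A} {p : ℕ} {T : Subgroup Y} {n : I → Y}
  {X : (I → ℤ) → Subgroup Y}

variable (R : RGD cs h p T n X) [Finite W] [Fintype Y] [hp : Fact p.Prime] (hG : GG cs h T X = ⊤)

include R hG

/-- **The abstract theorem.** -/
theorem mf_main (hp2 : p ≠ 2) {V : Subgroup Y} (hV : RGD.B cs h T X ≤ Subgroup.normalizer (V : Set Y)) (k₀ : Y)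
    (ha : ∀ w k, Rp cs R.nsys w k → (∀ t ∈ T, sv V (k⁻¹ * t * k) = sv V t) →
      k ∈ Subgroup.normalizer (V : Set Y) ∨ k₀⁻¹ * k ∈ Subgroup.normalizer (V : Set Y))
    {i : I} {w₁ : W} {k₁ : Y} (hk₁ : Rp cs R.nsys w₁ k₁)
    (hb : ∀ g ∈ PJ cs h T X {i},
      g ∈ Subgroup.normalizer ((V.map (MulAut.conj k₁).toMonoidHom : Subgroup Y) : Set Y) → g ∈ RGD.B cs h T X)
    (hs : ∀ t ∈ T, sv V (k₁⁻¹ * t * k₁) = sv (X (sr i)) t)
    (hc : ∀ w k, Rp cs R.nsys w k → (∀ t ∈ T, sv V (k⁻¹ * t * k) = sv (X (sr i)) t) →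
      k₁⁻¹ * k ∈ Subgroup.normalizer (V : Set Y) ∨ (n i * k₁)⁻¹ * k ∈ Subgroup.normalizer (V : Set Y))
    (hd : ∃ t ∈ T, sv V t ≠ 1) : Mf (Psi V) := by
  classical
  have hT : T ≤ Subgroup.normalizer (V : Set Y) := RGD.T_le_B.trans hV
  have hcell : ∀ g : Y, ∃ w, Cell R.nsys cs h X w g := fun g => (mem_GG R).1 (hG ▸ Subgroup.mem_top g)
  have hTk : ∀ {w : W} {k t : Y}, Rp cs R.nsys w k → t ∈ T → k⁻¹ * t * k ∈ T := by
    intro w k t hk ht
    have := (Subgroup.mem_normalizer_iff.1 (inv_mem hk.mem_normalizer) t).1 ht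
    rwa [inv_inv] at this
  set P := Subgroup.normalizer (V : Set Y) with hP
  set Q := PJ cs h T X {i} with hQ
  -- norm
  obtain ⟨N, hN, hN2⟩ := inner_le_two (A := P) (B := P) (ξ := cu (sg V)) (ξ' := cu (sg V)) 1 k₀ (by
    intro g hg
    obtain ⟨w, b₁, hb₁, k, hk, b₂, hb₂, rfl⟩ := hcell g
    have hg' : Good P P (cu (sg V)) (cu (sg V)) k :=
      (good_mul_iff (⟨b₁, hV hb₁⟩ : P) (⟨b₂, hV hb₂⟩ : P)).1 hg
    have h1 : ∀ t ∈ T, sv V (k⁻¹ * t * k) = sv V t := by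
      intro t ht
      have h2 := hg' ⟨t, hT ht⟩ ⟨k⁻¹ * t * k, hT (hTk hk ht)⟩ rfl
      rw [cu_eq_iff] at h2
      rw [sv_eq (hT (hTk hk ht)), sv_eq (hT ht)]
      exact h2.symm
    rcases ha w k hk h1 with h2 | h2
    · exact Or.inl ⟨b₁ * k * b₂, mul_mem (mul_mem (hV hb₁) h2) (hV hb₂), 1, one_mem _, by rw [mul_one, mul_one]⟩
    · refine Or.inr ⟨b₁, hV hb₁, k₀⁻¹ * k * b₂, mul_mem h2 (hV hb₂), by group⟩)
  -- the inner product
  have hinner : classInner (indFun Q fun x => (cu (sq Q (RGD.B cs h T X)) x : ℂ)) (Psi V) = 1 := by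
    refine inner_eq_one (A := Q) (B := P) (ξ := cu (sq Q (RGD.B cs h T X))) (ξ' := cu (sg V)) (g₁ := k₁) ?_ ?_
    · rintro ⟨a, ha⟩ ⟨b, hb0⟩ hab
      change b = k₁⁻¹ * a * k₁ at hab
      rw [cu_eq_iff]
      have haV : a ∈ Subgroup.normalizer ((V.map (MulAut.conj k₁).toMonoidHom : Subgroup Y) : Set Y) := by
        have h1 := mem_normalizer_map (a := MulAut.conj k₁) hb0
        have e : MulAut.conj k₁ b = a := by
          rw [MulAut.conj_apply, hab]; group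
        rwa [e] at h1
      have haB : a ∈ RGD.B cs h T X := hb a ha haV
      obtain ⟨t, ht, u, hu, rfl⟩ := R.mem_B.1 haB
      have htk := hTk hk₁ ht
      have hbt : (k₁⁻¹ * t * k₁)⁻¹ * b = k₁⁻¹ * u * k₁ := by rw [hab]; group
      have hukP : k₁⁻¹ * u * k₁ ∈ P := by
        rw [← hbt]
        exact mul_mem (inv_mem (hT htk)) hb0
      obtain ⟨m, hm, hum⟩ := odd_order_U R hp2 hu
      have e1 : (⟨t * u, ha⟩ : Q) = ⟨t, B_le_PJ (RGD.T_le_B ht)⟩ * ⟨u, B_le_PJ (RGD.U_le_B hu)⟩ := rfl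
      have e2 : sq Q (RGD.B cs h T X) ⟨t * u, ha⟩ = sv (X (sr i)) t := by
        rw [e1, map_mul, sq_T R i ht, sq_of_odd _ _ _ hm (Subtype.ext (by simpa using hum)), mul_one]
      have e3 : (⟨b, hb0⟩ : P) = ⟨k₁⁻¹ * t * k₁, hT htk⟩ * ⟨k₁⁻¹ * u * k₁, hukP⟩ := by
        apply Subtype.ext
        show b = k₁⁻¹ * t * k₁ * (k₁⁻¹ * u * k₁)
        rw [hab]; group
      have e4 : (k₁⁻¹ * u * k₁) ^ m = 1 := by
        have : k₁⁻¹ * u * k₁ = k₁⁻¹ * u * k₁⁻¹⁻¹ := by group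
        rw [this, conj_pow, hum, mul_one, mul_inv_cancel]
      have e5 : sg V ⟨k₁⁻¹ * u * k₁, hukP⟩ = 1 := sg_of_odd _ _ hm (Subtype.ext (by simpa using e4))
      rw [e2, e3, map_mul, e5, mul_one, ← sv_eq, hs t ht]
    · intro g hg
      obtain ⟨w, b₁, hb₁, k, hk, b₂, hb₂, rfl⟩ := hcell g
      have hg' : Good Q P (cu (sq Q (RGD.B cs h T X))) (cu (sg V)) k :=
        (good_mul_iff (⟨b₁, B_le_PJ hb₁⟩ : Q) (⟨b₂, hV hb₂⟩ : P)).1 hg
      have h1 : ∀ t ∈ T, sv V (k⁻¹ * t * k) = sv (X (sr i)) t := by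
        intro t ht
        have h2 := hg' ⟨t, B_le_PJ (RGD.T_le_B ht)⟩ ⟨k⁻¹ * t * k, hT (hTk hk ht)⟩ rfl
        rw [cu_eq_iff, sq_T R i ht] at h2
        rw [sv_eq (hT (hTk hk ht))]
        exact h2.symm
      rcases hc w k hk h1 with h2 | h2
      · exact ⟨b₁, B_le_PJ hb₁, k₁⁻¹ * k * b₂, mul_mem h2 (hV hb₂), by group⟩
      · exact ⟨b₁ * n i, mul_mem (B_le_PJ hb₁) (n_mem_P R i), (n i * k₁)⁻¹ * k * b₂, mul_mem h2 (hV hb₂), by group⟩
  have hinner' : classInner (Psi V) (indFun Q fun x => (cu (sq Q (RGD.B cs h T X)) x : ℂ)) = 1 := by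
    rw [← Characters.Core.classInner_conj_symm, hinner, map_one]
  refine mf_of_pair (ind_isCharacter P (cu (sg V))) (ind_isCharacter Q (cu (sq Q (RGD.B cs h T X)))) (ind_int P _)
    (ind_int Q _) hN hN2 hinner' ?_
  obtain ⟨t, ht, ht1⟩ := hd
  refine inner_one ⟨⟨t, hT ht⟩, fun h1 => ht1 ?_⟩
  rw [sv_eq (hT ht)]
  have h2 := congrArg (fun u : ℂˣ => (u : ℂ)) h1
  rw [cu_apply, Units.val_one] at h2
  exact Units.ext (by rw [Units.val_one]; exact_mod_cast h2)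

/-- the degree is prime to `p` -/
theorem not_dvd_index {V : Subgroup Y} (hV : RGD.B cs h T X ≤ Subgroup.normalizer (V : Set Y)) :
    ¬ p ∣ (Subgroup.normalizer (V : Set Y)).index := by
  intro hpd
  obtain ⟨S, hS⟩ := KFacts.RgdAutFacts.exists_sylow R hG
  have h2 : (S : Subgroup Y) ≤ Subgroup.normalizer (V : Set Y) := by
    rw [hS]
    exact RGD.U_le_B.trans hV
  exact S.not_dvd_index (hpd.trans (Subgroup.index_dvd_of_le h2))

/-- **The general case.** -/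
theorem mf_gen (hp2 : p ≠ 2)
    {x₀ : I → ℤ} (hx₀ : IsRoot cs h x₀) (hx₀' : 0 ≤ x₀) {V : Subgroup Y}
    (hV : RGD.B cs h T X ≤ Subgroup.normalizer (V : Set Y)) (hVU : V ≤ RGD.Sup X (RGD.Pos cs h)) (hXV : X x₀ ≤ V)
    (hN : ∀ w k, Rp cs R.nsys w k → rep cs h w x₀ = x₀ → k ∈ Subgroup.normalizer (V : Set Y))
    (hT : ∀ t ∈ T, sv V t = sv (X x₀) t)
    (hsep : ∀ w, (∀ t ∈ T, sv (X (rep cs h w x₀)) t = sv (X x₀) t) → rep cs h w x₀ = x₀ ∨ rep cs h w x₀ = -x₀)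
    (hd : ∃ w, rep cs h w x₀ ≠ x₀ ∧ rep cs h w x₀ ≠ -x₀) : Mf (Psi V) := by
  obtain ⟨u, i, hui⟩ := hx₀
  have hx₀ : IsRoot cs h x₀ := ⟨u, i, hui⟩
  obtain ⟨w₁, hw₁⟩ : ∃ w₁, w₁ = u⁻¹ := ⟨_, rfl⟩
  have hwu : rep cs h w₁ x₀ = sr i := by
    rw [hui, hw₁, ← rep_mul_apply, inv_mul_cancel, map_one, Module.End.one_apply]
  have hconj : ∀ {w : W} {k : Y}, Rp cs R.nsys w k → (X x₀).map (MulAut.conj k).toMonoidHom = X (rep cs h w x₀) :=
    fun hk => R.conj_rp hk hx₀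
  have hTk : ∀ {w : W} {k t : Y}, Rp cs R.nsys w k → t ∈ T → k⁻¹ * t * k ∈ T := by
    intro w k t hk ht
    have := (Subgroup.mem_normalizer_iff.1 (inv_mem hk.mem_normalizer) t).1 ht
    rwa [inv_inv] at this
  have hsv : ∀ {w : W} {k : Y} (t : Y), Rp cs R.nsys w k → t ∈ T → sv V (k⁻¹ * t * k) = sv (X (rep cs h w x₀)) t := by
    intro w k t hk ht
    rw [hT _ (hTk hk ht), ← hconj hk, ← sv_conj (X x₀) k (k⁻¹ * t * k)]
    congr 1
    group
  obtain ⟨k₁, hk₁⟩ := exists_rp cs R.nsys w₁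
  -- the opposite
  set w' := w₁⁻¹ * (cs.simple i * w₁) with hw'
  have hopp : rep cs h w' x₀ = -x₀ := by
    rw [hw', rep_mul_apply, rep_mul_apply, hwu, rep_simple_sr, map_neg]
    congr 1
    rw [← hwu, ← rep_mul_apply, inv_mul_cancel, map_one, Module.End.one_apply]
  obtain ⟨k₀, hk₀⟩ := exists_rp cs R.nsys w'
  have hneg : ∀ {w v : W}, rep cs h w x₀ = rep cs h v x₀ → rep cs h (v⁻¹ * w) x₀ = x₀ := by
    intro w v e
    rw [rep_mul_apply, e, ← rep_mul_apply, inv_mul_cancel, map_one, Module.End.one_apply]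
  refine mf_main R hG hp2 hV k₀ ?_ (i := i) hk₁ ?_ ?_ ?_ ?_
  · intro w k hk hs
    have h1 : ∀ t ∈ T, sv (X (rep cs h w x₀)) t = sv (X x₀) t := fun t ht => by
      rw [← hT t ht, ← hs t ht, hsv t hk ht]
    rcases hsep w h1 with h2 | h2
    · exact Or.inl (hN _ _ hk h2)
    · exact Or.inr (hN _ _ (hk₀.inv.mul hk) (hneg (by rw [h2, hopp])))
  · intro g hg hgV
    refine mem_B_of_conj R hVU hk₁ ?_ ?_ hg hgV
    · rw [← hwu, ← rep_mul_apply, inv_mul_cancel, map_one, Module.End.one_apply]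
      exact hx₀'
    · rw [← hwu, ← hconj hk₁]
      exact Subgroup.map_mono hXV
  · intro t ht
    rw [hsv t hk₁ ht, hwu]
  · intro w k hk hs
    have h1 : ∀ t ∈ T, sv (X (rep cs h (w₁⁻¹ * w) x₀)) t = sv (X x₀) t := by
      intro t ht
      have hkk : Rp cs R.nsys (w₁⁻¹ * w) (k₁⁻¹ * k) := hk₁.inv.mul hk
      have ht' : k₁ * t * k₁⁻¹ ∈ T := (Subgroup.mem_normalizer_iff.1 hk₁.mem_normalizer t).1 ht
      rw [← hsv t hkk ht]
      have e : (k₁⁻¹ * k)⁻¹ * t * (k₁⁻¹ * k) = k⁻¹ * (k₁ * t * k₁⁻¹) * k := by group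
      rw [e, hs _ ht', ← hwu, ← hconj hk₁, sv_conj]
    have hs2 : ∀ v : W, rep cs h w₁ (rep cs h (w₁⁻¹ * v) x₀) = rep cs h v x₀ := by
      intro v
      rw [← rep_mul_apply, mul_inv_cancel_left]
    rcases hsep _ h1 with h2 | h2
    · left
      exact hN _ _ (hk₁.inv.mul hk) h2
    · right
      have h3 : rep cs h w x₀ = -sr i := by
        rw [← hs2 w, h2, map_neg, hwu]
      refine hN _ _ ((((rp_simple cs R.nsys i).mul hk₁).inv).mul hk) (hneg ?_)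
      rw [h3, rep_mul_apply, hwu, rep_simple_sr]
  · by_contra hcon
    push Not at hcon
    obtain ⟨w, h1, h2⟩ := hd
    obtain ⟨k, hk⟩ := exists_rp cs R.nsys w
    rcases hsep w fun t ht => by
      rw [← hsv t hk ht, hcon _ (hTk hk ht), ← hT t ht, hcon t ht] with h3 | h3
    · exact h1 h3
    · exact h2 h3

/-- **The case of a root group.** `x₀` is a positive root. -/
theorem mf_root (hp2 : p ≠ 2)
    {x₀ : I → ℤ} (hx₀ : IsRoot cs h x₀) (hx₀' : 0 ≤ x₀)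
    (hV : RGD.B cs h T X ≤ Subgroup.normalizer (X x₀ : Set Y))
    (hsep : ∀ w, (∀ t ∈ T, sv (X (rep cs h w x₀)) t = sv (X x₀) t) → rep cs h w x₀ = x₀ ∨ rep cs h w x₀ = -x₀)
    (hd : ∃ w, rep cs h w x₀ ≠ x₀ ∧ rep cs h w x₀ ≠ -x₀) : Mf (Psi (X x₀)) := by
  refine mf_gen R hG hp2 hx₀ hx₀' hV (RGD.le_Sup ⟨hx₀, hx₀'⟩) le_rfl ?_ (fun _ _ => rfl) hsep hd
  intro w k hk hw
  have h1 := R.conj_rp hk hx₀
  rw [hw] at h1
  rw [Subgroup.mem_normalizer_iff]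
  intro y
  conv_rhs => rw [← h1]
  exact conj_mem_cj.symm

end Cfsg.Agent.H568.OC
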