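import Cfsg.Agent.H568.OC.Exc
import Cfsg.Agent.H932.OC.Tw

/-!
# S4829, own characteristic: the rows of `³D₄(q)`, `²E₆(q)`, `q` odd (helper568, after helper932)
-/

set_option autoImplicit false
set_option linter.unusedSectionVars false
set_option maxHeartbeats 400000

namespace Cfsg.Agent.H568.OC

open CoxeterSystem Cfsg.Agent.ChevalleyStructure.CoxeterGeom Cfsg.Agent.Tits.Roots Cfsg.Agent.Tits.Core
  Cfsg.Agent.Nodes.Reps Cfsg.Agent.Nodes.BNOf Cfsg.Agent.Nodes.StabComb Cfsg.Agent.Nodes.OppDec Cfsg.Agent.Nodes.Bruhat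
  Cfsg.Agent.Nodes.RGDTwGen Cfsg.Agent.Nodes.RGDChev Cfsg.Agent.Nodes.RGDFold
  Cfsg.Agent.Nodes.RGDFoldSL Cfsg.Agent.Nodes.RGDTwCoord Cfsg.Agent.Nodes.NormX Cfsg.Agent.Nodes.LeviDec
open Cfsg.Lie Cfsg.Agent.ChevalleyStructure Cfsg.Agent.ChevalleyStructure.Elts Cfsg.Agent.H967.ThRgd Cfsg.Agent.H967.ThTw
open Cfsg.Agent.H993.OC Cfsg.Agent.H798.Oc.Ind Cfsg.Agent.Nodes Cfsg.Agent.H932.OC Cfsg.Agent.H770.CY

universe u

section

variable {D : ChevalleyDatum} {l m : ℕ} {M' : CoxeterMatrix (Fin l)} {hp : IsType D l M'} {K : Type u} [Field K]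
  {M : CoxeterMatrix (Fin m)} {A : Fin m → Fin m → ℤ} {J : Fin m → List (Fin l)} {L : List (List ℕ)}
  {σ : GL D.Idx K →* GL D.Idx K} {ρ ρ' : ℕ → ℕ} {f : ℕ → K → K} {G : Subgroup (GL D.Idx K)} {φ : K →+* K}
  {ε δ : ℕ → ℤ} {O : List (List ℕ)} {dg : ℕ → ℕ → ℕ}
  {W : Type*} [Group W] {t : ℕ} [Finite K] {p : ℕ} [Fact p.Prime] [CharP K p]

/-- **The row of a twisted group.** -/
theorem row_tw (TC : TwC hp K M A J L σ ρ ρ' f G φ ε δ O dg) (C : Chk D M A J O dg t) (hp2 : p ≠ 2)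
    (cs : CoxeterSystem M W) (h : IsCartan M A) [Finite W]
    {rp : Fin m → ℕ} {rest : Fin m → List ℕ} (NO : ∀ i, NodeOK D J L ρ i (rp i) (rest i))
    (hf : ∀ i, ∀ s ∈ rp i :: rest i, ∀ t, f s t = φ t)
    (hsym : ∀ i j, Nat.card {a : K // Ok D J O φ (sr i) a} = Nat.card {a : K // Ok D J O φ (sr j) a} →
      (cl D J O (sr i)).length = (cl D J O (sr j)).length)
    (hN : ∀ j (d : K), φ d = d → d ≠ 0 → ∃ c : K, c ≠ 0 ∧ φ^[(rest j).length + 1] c = c ∧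
      ∀ s, [s] ∈ O → wt D φ (J j) s c = d ^ D.cartan (jh J j) s)
    (h0 : ∀ i, 0 ≤ V D J t i)
    (hd : ∃ i, Cfsg.Agent.Nodes.RGDFold.refl A i (V D J t) ≠ V D J t ∧
      Cfsg.Agent.Nodes.RGDFold.refl A i (V D J t) ≠ -V D J t)
    [Fintype ↥G] [IsSimpleGroup ↥G] (hL : Cfsg.IsLieTypeChar p ↥G) : RowA p ↥G := by
  obtain ⟨hV, hG, hB, hsep, hst⟩ := tw_data TC C hp2 cs h NO hf hsym hN
  have R := Cfsg.Agent.Nodes.RGDFold.rgd cs h TC.FD TC.FG p
  refine row_of_V hL (XT D hp K J σ G (V D J t)) hst (not_dvd_index R hG hB) ?_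
  refine mf_root R hG hp2 hV h0 hB (fun w hw => hsep w fun s hs g1 g2 => ?_) ?_
  · have := hw s hs
    rwa [sv_eq g1, sv_eq g2] at this
  · obtain ⟨j, hj1, hj2⟩ := hd
    exact ⟨cs.simple j, by rwa [rep_refl], by rwa [rep_refl]⟩

end

section D4

open RGDTwD4

variable {K : Type u} [Field K]

/-- **`³D₄(q)`** -/
theorem row_twD4 {p : ℕ} [Fact p.Prime] (hp : p ≠ 2) [Fintype K] [CharP K p] {q : ℕ}
    (hK : Fintype.card K = q ^ 3) [Fintype ↥(Cfsg.Lie.twistedD4 K q)] [IsSimpleGroup ↥(Cfsg.Lie.twistedD4 K q)]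
    (hL : Cfsg.IsLieTypeChar p ↥(Cfsg.Lie.twistedD4 K q)) : RowA p ↥(Cfsg.Lie.twistedD4 K q) := by
  obtain ⟨hq, hq1⟩ := primePow_of_card (p := p) (by norm_num) hK
  obtain ⟨φ, hφ⟩ := D4Fixed.exists_frob hq hK
  have := RGDFold.finite_W (hp := RGDTwD4.hp) CoxeterMatrix.G₂.toCoxeterSystem RGDTwD4.isCartan RGDTwD4.foldData
  have hl : ∀ i : Fin 2, (cl chevD4 RGDTwD4.J O4 (sr i)).length = (![1, 3] : Fin 2 → ℕ) i := by decide +kernel
  have hJ : ∀ i : Fin 2, (RGDTwD4.J i).length = (RGDTwNode.D4.rest i).length + 1 := by decide +kernel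
  have hJ' : ∀ i : Fin 2, (RGDTwD4.J i).length = 1 ∨ (RGDTwD4.J i).length = 3 := by decide +kernel
  have hc : ∀ o ∈ O4, o.length = 1 → ∀ j : Fin 2, ∀ i ∈ RGDTwD4.J j,
      chevD4.cartan i (o.headD 0) = chevD4.cartan (jh RGDTwD4.J j) (o.headD 0) := by decide +kernel
  refine row_tw (p := p) (twC4 hφ (D4Fixed.twisted_le_fix hK hφ)) chk4 hp CoxeterMatrix.G₂.toCoxeterSystem
    RGDTwD4.isCartan RGDTwNode.D4.nodeOK ?_ ?_ ?_ ?_ ?_ hL
  · intro i s hs t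
    show ((RGDTwD4.eps s : ℤ) : K) * φ t = φ t
    rw [RGDTwNode.D4.eps_one i s hs, Int.cast_one, one_mul]
  · intro i j hij
    have hne := card_ne (K := K) (φ := φ) hq1 (k := 3) (by norm_num) hφ hK (iterate_eq_self hφ hK)
    unfold Ok at hij
    rw [hl, hl] at hij ⊢
    fin_cases i <;> fin_cases j
    · rfl
    · exact absurd hij hne
    · exact absurd hij.symm hne
    · rfl
  · intro j d hd hd0
    rcases hJ' j with h1 | h1
    · refine ⟨d, hd0, ?_, fun s hs => ?_⟩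
      · rw [← hJ, h1]; exact hd
      · have h2 := wt_of_eq (φ := φ) _ d hd0 (hc [s] hs rfl j)
        rw [h1, Finset.prod_range_one] at h2
        exact h2
    · obtain ⟨c, hc0, hcd⟩ := exists_norm hq1 hK hd0 (by rw [← hφ]; exact hd)
      refine ⟨c, hc0, ?_, fun s hs => ?_⟩
      · rw [← hJ, h1]; exact iterate_eq_self hφ hK c
      · have h2 := wt_of_eq (φ := φ) _ c hc0 (hc [s] hs rfl j)
        rw [h1, prod_iterate hφ, hcd] at h2
        exact h2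
  · decide +kernel
  · decide +kernel

end D4

section E6

variable {K : Type u} [Field K]

/-- **`²E₆(q)`** -/
theorem row_twE6 {p : ℕ} [Fact p.Prime] (hp : p ≠ 2) [Fintype K] [CharP K p] {q : ℕ}
    (hK : Fintype.card K = q ^ 2) [Fintype ↥(Cfsg.Lie.twistedE6 K q)] [IsSimpleGroup ↥(Cfsg.Lie.twistedE6 K q)]
    (hL : Cfsg.IsLieTypeChar p ↥(Cfsg.Lie.twistedE6 K q)) : RowA p ↥(Cfsg.Lie.twistedE6 K q) := by
  obtain ⟨hq, hq1⟩ := primePow_of_card (p := p) (by norm_num) hK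
  obtain ⟨φ, hφ, hqq⟩ := TwE6Basic.exists_frob hq hK
  have := RGDFold.finite_W (hp := RGDTwE6.hp) CoxeterMatrix.F₄.toCoxeterSystem RGDTwE6.isCartan RGDTwE6.foldData
  have hl : ∀ i : Fin 4, (cl chevE6 RGDTwE6.J RGDTwCoordE6.O (sr i)).length = (![1, 1, 2, 2] : Fin 4 → ℕ) i := by
    decide +kernel
  have hJ : ∀ i : Fin 4, (RGDTwE6.J i).length = (RGDTwNode.E6.rest i).length + 1 := by decide +kernel
  have hJ' : ∀ i : Fin 4, (RGDTwE6.J i).length = 1 ∨ (RGDTwE6.J i).length = 2 := by decide +kernel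
  refine row_tw (p := p) (RGDTwComE6.twC hφ hqq) chk6 hp CoxeterMatrix.F₄.toCoxeterSystem
    RGDTwE6.isCartan RGDTwNode.E6.nodeOK ?_ ?_ ?_ ?_ ?_ hL
  · intro i s hs t
    show ((TwistedE6Sigma.eps s : ℤ) : K) * φ t = φ t
    rw [RGDTwNode.E6.eps_one i s hs, Int.cast_one, one_mul]
  · intro i j hij
    have hne := card_ne (K := K) (φ := φ) hq1 (k := 2) (by norm_num) hφ hK (iterate_eq_self hφ hK)
    unfold Ok at hij
    rw [hl, hl] at hij ⊢
    fin_cases i <;> fin_cases j <;> first | rfl | exact absurd hij hne | exact absurd hij.symm hne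
  · intro j d hd hd0
    rcases hJ' j with h1 | h1
    · refine ⟨d, hd0, ?_, fun s hs => ?_⟩
      · rw [← hJ, h1]; exact hd
      · have h2 := wt_of_eq (φ := φ) _ d hd0 (cart6 [s] hs rfl j)
        rw [h1, Finset.prod_range_one] at h2
        exact h2
    · obtain ⟨c, hc0, hcd⟩ := exists_norm hq1 hK hd0 (by rw [← hφ]; exact hd)
      refine ⟨c, hc0, ?_, fun s hs => ?_⟩
      · rw [← hJ, h1]; exact iterate_eq_self hφ hK c
      · have h2 := wt_of_eq (φ := φ) _ c hc0 (cart6 [s] hs rfl j)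
        rw [h1, prod_iterate hφ, hcd] at h2
        exact h2
  · decide +kernel
  · decide +kernel

end E6

section Rows

variable {p : ℕ} [Fact p.Prime] (hp2 : p ≠ 2)

include hp2

/-- **Row `²E₆(q)`** -/
theorem row_te6 : RowForA p (fun X _ => ∃ (K : Type) (_ : Field K) (_ : Fintype K) (_ : CharP K p) (q : ℕ),
    IsPrimePow q ∧ Fintype.card K = q ^ 2 ∧ Nonempty (X ≃* Lie.twistedE6 K q)) := by
  rintro X _ _ _ _ _ ⟨K, _, _, _, q, hq, hK, ⟨e⟩⟩
  refine rowFor_of e fun {_ _} => ?_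
  refine row_twE6 hp2 hK ?_
  right; right; right; right; right; right; right; left
  exact ⟨K, inferInstance, inferInstance, inferInstance, q, hq, Or.inl ⟨hK, ⟨MulEquiv.refl _⟩⟩⟩

/-- **Row `³D₄(q)`** -/
theorem row_td4 : RowForA p (fun X _ => ∃ (K : Type) (_ : Field K) (_ : Fintype K) (_ : CharP K p) (q : ℕ),
    IsPrimePow q ∧ Fintype.card K = q ^ 3 ∧ Nonempty (X ≃* Lie.twistedD4 K q)) := by
  rintro X _ _ _ _ _ ⟨K, _, _, _, q, hq, hK, ⟨e⟩⟩
  refine rowFor_of e fun {_ _} => ?_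
  refine row_twD4 hp2 hK ?_
  right; right; right; right; right; right; right; left
  exact ⟨K, inferInstance, inferInstance, inferInstance, q, hq, Or.inr ⟨hK, ⟨MulEquiv.refl _⟩⟩⟩

end Rows

end Cfsg.Agent.H568.OC
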